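import Cfsg.Agent.H500.AS.Seven
import Cfsg.Agent.H479.GoodPSLTwoB
import Cfsg.Agent.H408.SporSelf
import Cfsg.Agent.H149.Sp.Quot
import Cfsg.Agent.H199.NSmAbs
import Cfsg.Agent.H465.PETable
import Cfsg.Agent.H60.SpMcL
import Cfsg.Agent.H465.SpFi23
import Cfsg.Agent.H547.SelfCent.Conway
import Cfsg.Agent.H547.SelfCent.McLHS
import Cfsg.Agent.H547.SelfCent.Ru
import Cfsg.Agent.H393.Iso.Co1
import Cfsg.Agent.H393.Iso.Co2
import Cfsg.Agent.H393.Iso.Co3
import Cfsg.Agent.H393.Iso.HS
import Cfsg.Agent.H393.Iso.Ru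
import Cfsg.Agent.H153.ZerosSuz
import Cfsg.Agent.H845.HNNineteen
import Cfsg.Agent.H981.SCTh
import Cfsg.Agent.H680.ONThirtyOne_m3
import Cfsg.Agent.Prune
set_option linter.all false

section
prune_inst 0x7f00000000000000000000000000000000000000000000000000000000000000000000000000000000000000000000000000000000000000000000000000000000000000000000000000000000000000003fffffffffffffffffffffffffffbeffbdffffffff

-- part: H965/ASCount
section
set_option linter.all false
open scoped Cfsg.Agent.FastGrp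

/-!
# `AS2` by counting solvable pairs (helper965)
-/

set_option autoImplicit false

namespace Cfsg.Agent.H965.AS

open Subgroup

universe u

variable {S : Type u} [Group S] [Finite S]

/-- **The plain counting criterion.** -/
theorem AS2.of_count {s : S} (h : ∀ x : MulAut S, (orderOf x).Prime →
    2 * ({g : S | Group.IsSolvable (closure ({x, MulAut.conj (g * s * g⁻¹)} : Set (MulAut S)))} : Set S).ncard <
      Nat.card S) : AS2 S := by
  classical
  have key : ∀ x : MulAut S, x ≠ 1 →
      2 * ({g : S | Group.IsSolvable (closure ({x, MulAut.conj (g * s * g⁻¹)} : Set (MulAut S)))} : Set S).ncard <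
      Nat.card S := by
    intro x hx
    obtain ⟨t, ht, htx⟩ := Nat.exists_prime_and_dvd (n := orderOf x) (by rwa [ne_eq, orderOf_eq_one_iff])
    have hfin : Finite (MulAut S) := inferInstance
    have h1 : orderOf (x ^ (orderOf x / t)) = t := orderOf_pow_orderOf_div (orderOf_pos x).ne' htx
    refine lt_of_le_of_lt (Nat.mul_le_mul_left 2 (Set.ncard_le_ncard ?_ (Set.toFinite _)))
      (h _ (by rw [h1]; exact ht))
    intro g hg
    have hg' : Group.IsSolvable (closure ({x, MulAut.conj (g * s * g⁻¹)} : Set (MulAut S))) := hg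
    have hle : closure ({x ^ (orderOf x / t), MulAut.conj (g * s * g⁻¹)} : Set (MulAut S)) ≤
        closure ({x, MulAut.conj (g * s * g⁻¹)} : Set (MulAut S)) := by
      rw [closure_le]
      rintro w (rfl | rfl)
      · exact pow_mem (subset_closure (by simp)) _
      · exact subset_closure (by simp)
    exact Group.isSolvable_of_isSolvable_injective (f := inclusion hle) (inclusion_injective hle)
  intro a b ha hb
  by_contra hcon
  push Not at hcon
  have h1 : ({g : S | Group.IsSolvable (closure ({a, MulAut.conj (g * s * g⁻¹)} : Set (MulAut S)))} : Set S) ∪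
      {g : S | Group.IsSolvable (closure ({b, MulAut.conj (g * s * g⁻¹)} : Set (MulAut S)))} = Set.univ := by
    rw [Set.eq_univ_iff_forall]
    intro g
    by_cases hg : Group.IsSolvable (closure ({a, MulAut.conj (g * s * g⁻¹)} : Set (MulAut S)))
    · exact Or.inl hg
    · exact Or.inr (hcon _ hg)
  have h2 := Set.ncard_union_le
    ({g : S | Group.IsSolvable (closure ({a, MulAut.conj (g * s * g⁻¹)} : Set (MulAut S)))} : Set S)
    {g : S | Group.IsSolvable (closure ({b, MulAut.conj (g * s * g⁻¹)} : Set (MulAut S)))}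
  rw [h1, Set.ncard_univ] at h2
  have h3 := key a ha
  have h4 := key b hb
  omega

/-- the same, with the number of conjugates of `x` -/
theorem AS2.of_count_frac {s : S} (h : ∀ x : MulAut S, (orderOf x).Prime → ∃ B : Set S,
    (∀ g : S, Group.IsSolvable (closure ({x, MulAut.conj (g * s * g⁻¹)} : Set (MulAut S))) → g ∈ B) ∧
      2 * B.ncard < Nat.card S) : AS2 S := by
  refine AS2.of_count (s := s) fun x hx => ?_
  obtain ⟨B, hB, h2⟩ := h x hx
  exact lt_of_le_of_lt (Nat.mul_le_mul_left 2 (Set.ncard_le_ncard hB (Set.toFinite _))) h2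

end Cfsg.Agent.H965.AS
end

-- part: H965/ASSporC
section
set_option linter.all false
open scoped Cfsg.Agent.FastGrp

-- part: H965/ASSporB
section
/-!
# `AS2` for sporadic groups with a self-centralising solvably unique element of prime order (helper965)
-/

set_option autoImplicit false
set_option linter.unusedSectionVars false

namespace Cfsg.Agent.H965.AS

open Cfsg Subgroup Cfsg.Agent Cfsg.Agent.H465.SU Cfsg.Agent.H965.SU Cfsg.Agent.H408.SporEng

universe u

section

variable {K : Type u} [Group K] [Finite K] [IsSimpleGroup K]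

theorem not_dvd_out (hsp : IsSporadicGroup K) {p : ℕ} (h5 : 5 ≤ p) : ¬ p ∣ Nat.card (Cfsg.Out K) := by
  intro hd
  have h2 := Cfsg.Agent.H498.SporOut.index_le_two hsp
  have h3 : (MulAut.conj : K →* MulAut K).range.index = Nat.card (Cfsg.Out K) := rfl
  rw [h3] at h2
  have := Nat.le_of_dvd Nat.card_pos hd
  omega

/-- a solvably unique element of prime order `p` and a self-centralising one -/
theorem AS2.of_self1 (hna : ¬ IsMulCommutative K) (hsp : IsSporadicGroup K) {p : ℕ} (hp : p.Prime) (h5 : 5 ≤ p)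
    (h2 : ¬ p ^ 2 ∣ Nat.card K) {y : K} (hy : orderOf y = p) (hsu : SUel p y) (hs : Self p K) : AS2 K := by
  obtain ⟨x, hx, hc⟩ := hs
  have h1 := H199.NSmAbs.card_cent_dvd hp h2 hx hy
  rw [hc] at h1
  have h3 : Nat.card ↥(centralizer ({y} : Set K)) = p := by
    refine Nat.dvd_antisymm h1 ?_
    have h4 := H199.NSmAbs.card_cent_dvd hp h2 hy hx
    rwa [hc] at h4
  have hr : SURow K p 1 y :=
    { hp := hp
      odd := by omega
      ha := le_refl 1
      ord := by rw [hy, pow_one]
      su := hsu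
      full := h2
      inn := fun b hb => inner_of_card hp (not_dvd_out hsp h5) b hb }
  refine AS2.of_self hna hr h5 ?_
  have e1 : y ^ p ^ (1 - 1) = y := by simp
  rw [e1, h3, pow_one]

theorem AS2.of_ls (hna : ¬ IsMulCommutative K) (hsp : IsSporadicGroup K) {N p : ℕ} (L : List (ℕ × ℕ))
    (hG : Nat.card K = N) (hp : p.Prime) (hp5 : 5 ≤ p)
    (hN : N = p * (L.map fun x => x.1 ^ x.2).prod) (hL : ∀ x ∈ L, x.1.Prime) (hnd : (p :: L.map Prod.fst).Nodup)
    (h : ∀ x ∈ L, ∀ k ∈ List.range (x.2 + 1), 0 < k → ¬ p ∣ x.1 ^ k - 1) (h1 : ¬ p ^ 2 ∣ N) (hs : Self p K) :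
    AS2 K := by
  subst hG
  have : Fact p.Prime := ⟨hp⟩
  obtain ⟨y, hy⟩ := exists_prime_orderOf_dvd_card' (G := K) p (by rw [hN]; exact dvd_mul_right _ _)
  rw [List.nodup_cons] at hnd
  exact AS2.of_self1 hna hsp hp hp5 h1 hy (SUel.of_arith hp h1 (arith_of_list L hL hN hp hnd.2 h) hy) hs

theorem row_m11 (hna : ¬ IsMulCommutative K) (hsp : IsSporadicGroup K) (h : Spor.IsoM11 K) : AS2 K :=
  AS2.of_ls hna hsp (p := 11) [(2, 4), (3, 2), (5, 1)] (NotCT.Orders.m11 h) (by norm_num) (by norm_num)
    (by norm_num) (by norm_num) (by decide +kernel) (by decide +kernel) (by norm_num)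
    (h.elim fun e => H408.SporSelf.m11.congr e.symm)

theorem row_m12 (hna : ¬ IsMulCommutative K) (hsp : IsSporadicGroup K) (h : Spor.IsoM12 K) : AS2 K :=
  AS2.of_ls hna hsp (p := 11) [(2, 6), (3, 3), (5, 1)] (NotCT.Orders.m12 h) (by norm_num) (by norm_num)
    (by norm_num) (by norm_num) (by decide +kernel) (by decide +kernel) (by norm_num)
    (h.elim fun e => H408.SporSelf.m12.congr e.symm)

theorem row_m22 (hna : ¬ IsMulCommutative K) (hsp : IsSporadicGroup K) (h : Spor.IsoM22 K) : AS2 K :=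
  AS2.of_ls hna hsp (p := 11) [(2, 7), (3, 2), (5, 1), (7, 1)] (NotCT.Orders.m22 h) (by norm_num) (by norm_num)
    (by norm_num) (by norm_num) (by decide +kernel) (by decide +kernel) (by norm_num)
    (h.elim fun e => H408.SporSelf.m22.congr e.symm)

theorem row_m23 (hna : ¬ IsMulCommutative K) (hsp : IsSporadicGroup K) (h : Spor.IsoM23 K) : AS2 K :=
  AS2.of_ls hna hsp (p := 23) [(2, 7), (3, 2), (5, 1), (7, 1), (11, 1)] (NotCT.Orders.m23 h) (by norm_num) (by norm_num)
    (by norm_num) (by norm_num only [_root_.List.mem_cons, _root_.List.not_mem_nil, _root_.or_false, _root_.forall_eq_or_imp, _root_.forall_eq, _root_.and_self]) (by decide +kernel) (by decide +kernel) (by norm_num)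
    (h.elim fun e => H408.SporSelf.m23.congr e.symm)

theorem row_m24 (hna : ¬ IsMulCommutative K) (hsp : IsSporadicGroup K) (h : Spor.IsoM24 K) : AS2 K :=
  AS2.of_ls hna hsp (p := 23) [(2, 10), (3, 3), (5, 1), (7, 1), (11, 1)] (NotCT.Orders.m24 h) (by norm_num) (by norm_num)
    (by norm_num) (by norm_num only [_root_.List.mem_cons, _root_.List.not_mem_nil, _root_.or_false, _root_.forall_eq_or_imp, _root_.forall_eq, _root_.and_self]) (by decide +kernel) (by decide +kernel) (by norm_num)
    (h.elim fun e => H408.SporSelf.m24.congr e.symm)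

theorem row_j1 (hna : ¬ IsMulCommutative K) (hsp : IsSporadicGroup K) (h : Spor.IsoJ1 K) : AS2 K :=
  AS2.of_ls hna hsp (p := 19) [(2, 3), (3, 1), (5, 1), (7, 1), (11, 1)] (NotCT.Orders.j1 h) (by norm_num) (by norm_num)
    (by norm_num) (by norm_num only [_root_.List.mem_cons, _root_.List.not_mem_nil, _root_.or_false, _root_.forall_eq_or_imp, _root_.forall_eq, _root_.and_self]) (by decide +kernel) (by decide +kernel) (by norm_num)
    (h.elim fun e => H408.SporSelf.j1.congr e.symm)

theorem row_j3 (hna : ¬ IsMulCommutative K) (hsp : IsSporadicGroup K) (h : Spor.IsoJ3 K) : AS2 K :=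
  AS2.of_ls hna hsp (p := 19) [(2, 7), (3, 5), (5, 1), (17, 1)] (NotCT.Orders.j3 h) (by norm_num) (by norm_num)
    (by norm_num) (by norm_num) (by decide +kernel) (by decide +kernel) (by norm_num) (H408.SporSelf.j3 h)

theorem self_j4 : Self 37 Spor.J4 := by
  have hc := NotCT.Orders.j4 (K := Spor.J4) ⟨MulEquiv.refl _⟩
  have : Finite Spor.J4 := Nat.finite_of_card_ne_zero (by rw [hc]; norm_num)
  exact Self.of_all (by norm_num) (by rw [hc]; norm_num) fun x hx => H723.Spor.JFour.cent_big (by norm_num) hx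

theorem row_j4 (hna : ¬ IsMulCommutative K) (hsp : IsSporadicGroup K) (h : Spor.IsoJ4 K) : AS2 K :=
  AS2.of_ls hna hsp (p := 37) [(2, 21), (3, 3), (5, 1), (7, 1), (11, 3), (23, 1), (29, 1), (31, 1), (43, 1)]
    (NotCT.Orders.j4 h) (by norm_num) (by norm_num)
    (by norm_num) (by norm_num only [_root_.List.mem_cons, _root_.List.not_mem_nil, _root_.or_false, _root_.forall_eq_or_imp, _root_.forall_eq, _root_.and_self]) (by decide +kernel) (by decide +kernel) (by norm_num)
    (h.elim fun e => self_j4.congr e.symm)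

theorem row_fi24 (hna : ¬ IsMulCommutative K) (hsp : IsSporadicGroup K) (h : Spor.IsoFi24' K) : AS2 K :=
  AS2.of_ls hna hsp (p := 29) [(2, 21), (3, 16), (5, 2), (7, 3), (11, 1), (13, 1), (17, 1), (23, 1)]
    (NotCT.Orders.fi24 h) (by norm_num) (by norm_num)
    (by norm_num) (by norm_num only [_root_.List.mem_cons, _root_.List.not_mem_nil, _root_.or_false, _root_.forall_eq_or_imp, _root_.forall_eq, _root_.and_self]) (by decide +kernel) (by decide +kernel) (by norm_num)
    (h.elim fun e => H408.SporSelf.fi24.congr e.symm)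

/-- extracting the prime from `HasSU1` -/
theorem of_hasSU1 (hna : ¬ IsMulCommutative K) (hsp : IsSporadicGroup K) {N p : ℕ} (hG : Nat.card K = N)
    (hq : ∀ q : ℕ, q.Prime → 5 ≤ q → q ∣ N → ¬ q ^ 2 ∣ N → q = p) (h : HasSU1 K) (hs : Self p K) : AS2 K := by
  obtain ⟨q, y, hq1, hq5, hy, h2, hsu⟩ := h
  have h3 : q = p := hq q hq1 hq5 (by rw [← hG, ← hy]; exact _root_.orderOf_dvd_natCard y) (by rw [← hG]; exact h2)
  subst h3
  exact AS2.of_self1 hna hsp hq1 hq5 h2 hy hsu hs

/-- a prime divisor, by a list of primes -/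
theorem dvd_list {q : ℕ} (hq : q.Prime) : ∀ {L : List (ℕ × ℕ)} (_ : ∀ x ∈ L, x.1.Prime)
    (_ : q ∣ (L.map fun x => x.1 ^ x.2).prod), ∃ x ∈ L, x.1 = q := by
  intro L hL hd
  obtain ⟨a, ha, hqa⟩ := (Prime.dvd_prod_iff hq.prime).1 hd
  obtain ⟨x, hx, rfl⟩ := List.mem_map.1 ha
  exact ⟨x, hx, ((Nat.prime_dvd_prime_iff_eq hq (hL x hx)).1 (hq.dvd_of_dvd_pow hqa)).symm⟩

theorem row_j2 (hna : ¬ IsMulCommutative K) (hsp : IsSporadicGroup K) (h : Spor.IsoJ2 K) : AS2 K := by
  have hc := NotCT.Orders.j2 h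
  refine of_hasSU1 (p := 7) hna hsp hc ?_ ?_ (h.elim fun e => H408.SporSelf.j2.congr e.symm)
  · intro q hq h5 hd h2
    obtain ⟨x, hx, rfl⟩ := dvd_list hq (L := [(2, 7), (3, 3), (5, 2), (7, 1)]) (by norm_num)
      (by norm_num; exact hd)
    simp only [List.mem_cons, List.not_mem_nil, or_false] at hx
    rcases hx with rfl | rfl | rfl | rfl
    · norm_num at h5
    · norm_num at h5
    · norm_num at h2
    · rfl
  · rcases Cfsg.Agent.H465.PETable.hasSU1_sporadic hsp with h1 | h1
    · exact h1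
    · have h3 := NotCT.Orders.fi22 h1
      rw [hc] at h3
      norm_num at h3

theorem row_he (hna : ¬ IsMulCommutative K) (hsp : IsSporadicGroup K) (h : Spor.IsoHe K) : AS2 K := by
  have hc := NotCT.Orders.he h
  refine of_hasSU1 (p := 17) hna hsp hc ?_ ?_ (h.elim fun e => H408.SporSelf.he.congr e.symm)
  · intro q hq h5 hd h2
    obtain ⟨x, hx, rfl⟩ := dvd_list hq (L := [(2, 10), (3, 3), (5, 2), (7, 3), (17, 1)]) (by norm_num only [_root_.List.mem_cons, _root_.List.not_mem_nil, _root_.or_false, _root_.forall_eq_or_imp, _root_.forall_eq, _root_.and_self])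
      (by norm_num; exact hd)
    simp only [List.mem_cons, List.not_mem_nil, or_false] at hx
    rcases hx with rfl | rfl | rfl | rfl | rfl
    · norm_num at h5
    · norm_num at h5
    · norm_num at h2
    · norm_num at h2
    · rfl
  · rcases Cfsg.Agent.H465.PETable.hasSU1_sporadic hsp with h1 | h1
    · exact h1
    · have h3 := NotCT.Orders.fi22 h1
      rw [hc] at h3
      norm_num at h3

end

end Cfsg.Agent.H965.AS
end

-- part: H965/ASSporC
section
/-!
# `AS2` for sporadic groups, second part (helper965)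

`suel_mcl`, `suel_fi23`, `suel_suz`, `suel_co2` : the proofs of helper60, helper837, helper322, helper821 with the prime
named.
-/

set_option autoImplicit false
set_option linter.unusedSectionVars false
set_option maxRecDepth 100000

namespace Cfsg.Agent.H965.AS

section McL

open Subgroup Cfsg Cfsg.Agent Cfsg.Agent.SporadicStructure.PermChain Cfsg.Agent.McLType.Chain Cfsg.Agent.McLType.X275
  Cfsg.Agent.McLType.Gens Cfsg.Agent.McLType.Model Cfsg.Agent.McLType.ThreeElts Cfsg.Agent.H60.SylTool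
  Cfsg.Agent.H60.SpMcL

theorem suel_mcl {G : Type*} [Group G] [Finite G] (h : Spor.IsoMcL G) {y : G} (hy : orderOf y = 11) : H465.SU.SUel 11 y := by
  obtain ⟨-, hsimp, hcard, -⟩ := TypeM.FactsMcL.facts h
  have := Fact.mk (show Nat.Prime 11 by norm_num)
  have hcy := card_cent_eleven h hy
  refine H465.SU.SUel.of_elem (by norm_num) (by rw [hcard]; norm_num) hy ?_ ?_
  · intro u hu hu11 huy
    have h8 : u ∈ centralizer ({y} : Set G) := Subgroup.mem_centralizer_singleton_iff.2 huy.symm
    have h9 := _root_.orderOf_dvd_natCard (⟨u, h8⟩ : centralizer ({y} : Set G))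
    rw [Subgroup.orderOf_mk, hcy] at h9
    exact hu11 ((Nat.prime_dvd_prime_iff_eq hu (by norm_num)).1 h9)
  · intro t k E ht ht11 hk hE hdvd h11 hexp hcomm _
    rw [hcard] at hdvd
    -- `t ^ k = 3 ^ 5`
    have h1 : t = 3 ∧ k = 5 := by
      have htd : t ∣ 898128000 := (dvd_pow_self t hk.ne').trans hdvd
      have h2 : t ∣ 2 ^ 7 * (3 ^ 6 * (5 ^ 3 * (7 * 11))) := htd
      have h3 : t = 2 ∨ t = 3 ∨ t = 5 ∨ t = 7 := by
        rcases (Nat.Prime.dvd_mul ht).1 h2 with h | h
        · left
          exact (Nat.prime_dvd_prime_iff_eq ht Nat.prime_two).1 (ht.dvd_of_dvd_pow h)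
        rcases (Nat.Prime.dvd_mul ht).1 h with h | h
        · right; left
          exact (Nat.prime_dvd_prime_iff_eq ht Nat.prime_three).1 (ht.dvd_of_dvd_pow h)
        rcases (Nat.Prime.dvd_mul ht).1 h with h | h
        · right; right; left
          exact (Nat.prime_dvd_prime_iff_eq ht Nat.prime_five).1 (ht.dvd_of_dvd_pow h)
        rcases (Nat.Prime.dvd_mul ht).1 h with h | h
        · right; right; right
          exact (Nat.prime_dvd_prime_iff_eq ht (by norm_num)).1 h
        · exact absurd ((Nat.prime_dvd_prime_iff_eq ht (by norm_num)).1 h) ht11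
      have hb : ∀ m : ℕ, ¬ t ^ (m + 1) ∣ 898128000 → k ≤ m := by
        intro m hm
        by_contra hlt
        exact hm ((pow_dvd_pow t (by omega)).trans hdvd)
      rcases h3 with rfl | rfl | rfl | rfl
      · have := hb 7 (by norm_num)
        exfalso
        interval_cases k <;> revert h11 <;> decide
      · have := hb 6 (by norm_num)
        refine ⟨rfl, ?_⟩
        interval_cases k
        any_goals rfl
        all_goals exact absurd h11 (by decide)
      · have := hb 3 (by norm_num)
        exfalso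
        interval_cases k <;> revert h11 <;> decide
      · have := hb 1 (by norm_num)
        exfalso
        interval_cases k <;> revert h11 <;> decide
    obtain ⟨rfl, rfl⟩ := h1
    obtain ⟨e⟩ := h
    obtain ⟨e'⟩ := isoMcL_G1
    let g : G ≃* G1 := e.trans e'.symm
    let f : G →* Equiv.Perm (Fin 275) := ψ.comp g.toMonoidHom
    have hf : Function.Injective f := ψ_injective.comp g.injective
    have hr : f.range = K0 := by
      ext x
      rw [MonoidHom.mem_range, mem_K0_iff]
      constructor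
      · rintro ⟨z, rfl⟩
        exact ⟨g z, rfl⟩
      · rintro ⟨z, rfl⟩
        exact ⟨g.symm z, congrArg ψ (g.apply_symm_apply z)⟩
    have hEp : IsPGroup 3 E := IsPGroup.of_card hE
    obtain ⟨k, hk⟩ := conj_P f hf hr hcard hEp
    let F : G →* Equiv.Perm (Fin 275) := f.comp (MulAut.conj k).toMonoidHom
    have hF : Function.Injective F := hf.comp (MulAut.conj k).injective
    refine no_243 (E := E.map F) ?_ ?_ ?_
    · rintro _ ⟨x, hx, rfl⟩
      exact hk x hx
    · rintro _ ⟨x, hx, rfl⟩ _ ⟨z, hz, rfl⟩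
      rw [← map_mul, hcomm x hx z hz, map_mul]
    · rw [Subgroup.card_map_of_injective hF, hE]
      norm_num

end McL

section Fi

open Cfsg Subgroup Cfsg.Agent Cfsg.Agent.H465.SU Cfsg.Agent.H465.SpFi23
open Cfsg.Agent.Fischer.Fi23Simple (card_Fi23)
open Cfsg.Spor (Fi23)

theorem suel_fi23 {y : Fi23} (hy : orderOf y = 17) : SUel 17 y := by
  have := finF
  have h17 : Nat.Prime 17 := by norm_num
  have : Fact (Nat.Prime 17) := ⟨h17⟩
  have h1 : ¬ 17 ^ 2 ∣ Nat.card Fi23 := by rw [card_Fi23]; norm_num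
  refine SUel.of_elem h17 h1 hy ?_ ?_
  · intro u hu hu17 hc
    have h2 := self_cent hy hc
    exact hu17 ((Nat.prime_dvd_prime_iff_eq hu h17).1 (orderOf_dvd_of_pow_eq_one h2))
  · intro t k E ht ht17 hk hEc hd hdvd hpow hcomm hyE
    by_cases ht2 : t = 2
    · subst ht2
      have : Fact (Nat.Prime 2) := ⟨Nat.prime_two⟩
      refine no_two hy (IsPGroup.of_card hEc) ?_ hyE
      rintro rfl
      rw [card_bot] at hEc
      exact (Nat.one_lt_pow hk.ne' (by norm_num)).ne hEc
    · refine arith_of_list (N := 17 * (([(3, 13), (5, 2), (7, 1), (11, 1), (13, 1), (23, 1)] :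
        List (ℕ × ℕ)).map fun x => x.1 ^ x.2).prod) (p := 17)
        [(3, 13), (5, 2), (7, 1), (11, 1), (13, 1), (23, 1)] (by norm_num only [_root_.List.mem_cons, _root_.List.not_mem_nil, _root_.or_false, _root_.forall_eq_or_imp, _root_.forall_eq, _root_.and_self]) (by norm_num) h17 (by norm_num)
        (by decide +kernel) t k ht ht17 hk ?_ hdvd
      rw [card_Fi23] at hd
      have h5 : (4089470473293004800 : ℕ) = 2 ^ 18 * (17 *
        (([(3, 13), (5, 2), (7, 1), (11, 1), (13, 1), (23, 1)] : List (ℕ × ℕ)).map fun x => x.1 ^ x.2).prod) := by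
        norm_num
      rw [h5] at hd
      exact (Nat.Coprime.pow k 18 ((Nat.coprime_primes ht Nat.prime_two).2 ht2)).dvd_of_dvd_mul_left hd

end Fi

section Co

open Cfsg Cfsg.Agent Cfsg.Agent.H465.SU Cfsg.Agent.H794.LeechPP Cfsg.Agent.H322.SUCo
open Cfsg.Spor (Co1)
open Cfsg.Agent.SporadicStructure.Co0Base
open Subgroup

open LThreeCo1Suz.Main LThreeCo1.FourCo1 in
/-- **Suz** -/
theorem suel_suz {G : Type*} [Group G] [Finite G] (h : Spor.IsoSuz G) : ∃ y : G, orderOf y = 13 ∧ SUel 13 y := by
  have h13 : Fact (Nat.Prime 13) := ⟨by norm_num⟩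
  have := CpAutBig.CoZero.finite_co0
  obtain ⟨f⟩ := id h
  obtain ⟨f'⟩ := isoSuz_X
  let C := centralizer ({X 0} : Set Co1)
  let π : C →* C ⧸ EE := QuotientGroup.mk' EE
  have hπ : Function.Surjective π := QuotientGroup.mk'_surjective _
  have hcard : Nat.card (C ⧸ EE) = Nat.card G := Nat.card_congr (f'.trans f.symm).toEquiv
  have hd : 13 ∣ Nat.card C := by
    refine dvd_trans ?_ (card_dvd_of_surjective π hπ)
    rw [hcard, NotCT.Orders.suz h]
    norm_num
  obtain ⟨y, hy⟩ := exists_prime_orderOf_dvd_card' (G := C) 13 hd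
  have hker : π.ker = EE := QuotientGroup.ker_mk' _
  have h3 : IsPGroup 3 EE := fun g => ⟨1, Subtype.ext (by rw [pow_one]; exact cube g.2)⟩
  have h1 : SUel 13 y := suel_restrict (suel_co1 (s := (y : Co1)) (by rw [Subgroup.orderOf_coe, hy]))
  have hco : ¬ 13 ∣ Nat.card EE := by
    intro hd
    have : Fact (Nat.Prime 3) := ⟨by norm_num⟩
    obtain ⟨n, hn⟩ := IsPGroup.iff_card.1 h3
    rw [hn] at hd
    have := (Nat.prime_dvd_prime_iff_eq (by norm_num) (by norm_num)).1
      ((show Nat.Prime 13 by norm_num).dvd_of_dvd_pow hd)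
    omega
  have h2 : SUel 13 (π y) := by
    refine h1.map π hπ ?_ (by norm_num) ?_
    · rw [hker]
      have : Fact (Nat.Prime 3) := ⟨by norm_num⟩
      have := h3.isNilpotent
      infer_instance
    · rw [hker]
      exact hco
  have hord : orderOf (π y) = 13 := by
    refine orderOf_eq_prime (by rw [← map_pow, ← hy, pow_orderOf_eq_one, map_one]) h2.1
  exact ⟨(f'.trans f.symm) (π y), by rw [MulEquiv.orderOf_eq, hord], h2.congr _⟩

theorem suel_co2 {G : Type*} [Group G] [Finite G] (h : Spor.IsoCo2 G) {y : G} (hy : orderOf y = 23) : SUel 23 y := by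
  have hcard := Cfsg.Agent.NotCT.Orders.co2 h
  obtain ⟨e⟩ := h
  have hfin : Finite Spor.Co2 := Finite.of_equiv G e.toEquiv
  have : Fact (Nat.Prime 23) := ⟨by norm_num⟩
  have hp : Nat.Prime 23 := by norm_num
  have hnd : ¬ 23 ^ 2 ∣ Nat.card G := by rw [hcard]; norm_num
  refine SUel.of_elem hp hnd hy ?_ ?_
  · intro u hu hu23 hc
    refine H821.SpCo2.not_comm (y := e y) (u := e u) ?_ ?_ ?_ ?_ ?_
    · rw [MulEquiv.orderOf_eq, hy]
    · rw [MulEquiv.orderOf_eq]; exact hu
    · rw [MulEquiv.orderOf_eq]; exact hu23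
    · rw [MulEquiv.orderOf_eq]
      have h1 : orderOf u ∣ 2 ^ 18 * 3 ^ 6 * 5 ^ 3 * 7 * 11 * 23 := by
        have h2 := _root_.orderOf_dvd_natCard u
        rw [hcard] at h2
        norm_num
        exact h2
      rw [hu.dvd_mul, hu.dvd_mul, hu.dvd_mul, hu.dvd_mul, hu.dvd_mul] at h1
      rcases h1 with ((((h1 | h1) | h1) | h1) | h1) | h1
      · exact (Nat.le_of_dvd (by norm_num) (hu.dvd_of_dvd_pow h1)).trans (by norm_num)
      · exact (Nat.le_of_dvd (by norm_num) (hu.dvd_of_dvd_pow h1)).trans (by norm_num)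
      · exact (Nat.le_of_dvd (by norm_num) (hu.dvd_of_dvd_pow h1)).trans (by norm_num)
      · exact (Nat.le_of_dvd (by norm_num) h1).trans (by norm_num)
      · exact (Nat.le_of_dvd (by norm_num) h1).trans (by norm_num)
      · exact Nat.le_of_dvd (by norm_num) h1
    · rw [← map_mul, ← map_mul, hc]
  · intro t k E ht htp hk hE hdvd h23 hexp hcomm _
    by_cases ht2 : t = 2
    · subst ht2
      have hk18 : k ≤ 18 := by
        by_contra hcon
        have h1 : 2 ^ 19 ∣ Nat.card G := (pow_dvd_pow 2 (by omega)).trans hdvd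
        rw [hcard] at h1
        norm_num at h1
      have hk11 : 11 ≤ k := by
        by_contra hcon
        push Not at hcon
        interval_cases k <;> norm_num at h23
      -- transport
      have h1 := Cfsg.Agent.Omega.CoTwoK.RankCo2.card_le (A := E.map e.toMonoidHom) (by
        rintro _ ⟨a, ha, rfl⟩
        rw [← map_mul, ← pow_two, hexp a ha, map_one])
      rw [Nat.card_congr (E.equivMapOfInjective e.toMonoidHom e.injective).toEquiv.symm, hE] at h1
      exact absurd h1 (not_le.2 (Nat.pow_lt_pow_right (by norm_num) (by omega)))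
    · have h1 : t ^ k ∣ 23 * ([(3, 6), (5, 3), (7, 1), (11, 1)].map fun x : ℕ × ℕ => x.1 ^ x.2).prod := by
        have h2 : t ^ k ∣ 2 ^ 18 * (23 * ([(3, 6), (5, 3), (7, 1), (11, 1)].map fun x : ℕ × ℕ => x.1 ^ x.2).prod) := by
          rw [hcard] at hdvd
          convert hdvd using 1
          decide +kernel
        exact (Nat.Coprime.pow k 18 ((Nat.coprime_primes ht Nat.prime_two).2 ht2)).dvd_of_dvd_mul_left h2
      exact arith_of_list (p := 23) [(3, 6), (5, 3), (7, 1), (11, 1)] (by norm_num) rfl hp (by decide +kernel)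
        (by decide +kernel) t k ht htp hk h1 h23

end Co

open Cfsg Subgroup Cfsg.Agent Cfsg.Agent.H465.SU Cfsg.Agent.H965.SU Cfsg.Agent.H408.SporEng

universe u

section

variable {K : Type u} [Group K] [Finite K] [IsSimpleGroup K]

theorem row_mcl (hna : ¬ IsMulCommutative K) (hsp : IsSporadicGroup K) (h : Spor.IsoMcL K) : AS2 K := by
  have hcard := NotCT.Orders.mcl h
  have : Fact (Nat.Prime 11) := ⟨by norm_num⟩
  obtain ⟨y, hy⟩ := exists_prime_orderOf_dvd_card' (G := K) 11 (by rw [hcard]; norm_num)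
  exact AS2.of_self1 hna hsp (by norm_num) (by norm_num) (by rw [hcard]; norm_num) hy (suel_mcl h hy)
    ⟨y, hy, H60.SpMcL.card_cent_eleven h hy⟩

theorem row_fi23 (hna : ¬ IsMulCommutative K) (hsp : IsSporadicGroup K) (h : Spor.IsoFi23 K) : AS2 K := by
  have hcard := NotCT.Orders.fi23 h
  obtain ⟨e⟩ := h
  have : Fact (Nat.Prime 17) := ⟨by norm_num⟩
  obtain ⟨y, hy⟩ := exists_prime_orderOf_dvd_card' (G := K) 17 (by rw [hcard]; norm_num)
  have hey : orderOf (e y) = 17 := by rw [MulEquiv.orderOf_eq, hy]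
  have h1 := (suel_fi23 hey).congr e.symm
  rw [e.symm_apply_apply] at h1
  have hfin := Cfsg.Agent.H465.SpFi23.finF
  have hs : Self 17 Spor.Fi23 := by
    refine ⟨e y, hey, ?_⟩
    have h2 := (Cfsg.Agent.H839.Fi23.seventeen_main (zpowers (e y)) (by rw [Nat.card_zpowers, hey])).2
    rw [H408.SporEng.centralizer_zpowers_eq] at h2
    rw [h2, Nat.card_zpowers, hey]
  exact AS2.of_self1 hna hsp (by norm_num) (by norm_num) (by rw [hcard]; norm_num) hy h1 (hs.congr e.symm)

theorem row_suz (hna : ¬ IsMulCommutative K) (hsp : IsSporadicGroup K) (h : Spor.IsoSuz K) : AS2 K := by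
  have hcard := NotCT.Orders.suz h
  obtain ⟨y, hy, hsu⟩ := suel_suz h
  obtain ⟨e⟩ := h
  have hs : Self 13 Spor.Suz := ⟨e y, by rw [MulEquiv.orderOf_eq, hy],
    H153.Zeros.card_cent_suz (by rw [MulEquiv.orderOf_eq, hy])⟩
  exact AS2.of_self1 hna hsp (by norm_num) (by norm_num) (by rw [hcard]; norm_num) hy hsu (hs.congr e.symm)

theorem row_co2 (hna : ¬ IsMulCommutative K) (hsp : IsSporadicGroup K) (h : Spor.IsoCo2 K) : AS2 K := by
  have hcard := NotCT.Orders.co2 h
  have : Fact (Nat.Prime 23) := ⟨by norm_num⟩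
  obtain ⟨y, hy⟩ := exists_prime_orderOf_dvd_card' (G := K) 23 (by rw [hcard]; norm_num)
  exact AS2.of_self1 hna hsp (by norm_num) (by norm_num) (by rw [hcard]; norm_num) hy (suel_co2 h hy)
    ⟨y, hy, H547.SelfCent.Conway.co2 h (H393.Iso.na_co2 h) hy⟩

theorem row_co3 (hna : ¬ IsMulCommutative K) (hsp : IsSporadicGroup K) (h : Spor.IsoCo3 K) : AS2 K := by
  have hcard := NotCT.Orders.co3 h
  have : Fact (Nat.Prime 23) := ⟨by norm_num⟩
  obtain ⟨y, hy⟩ := exists_prime_orderOf_dvd_card' (G := K) 23 (by rw [hcard]; norm_num)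
  exact AS2.of_ls hna hsp (p := 23) [(2, 10), (3, 7), (5, 3), (7, 1), (11, 1)] hcard (by norm_num) (by norm_num)
    (by norm_num) (by norm_num only [_root_.List.mem_cons, _root_.List.not_mem_nil, _root_.or_false, _root_.forall_eq_or_imp, _root_.forall_eq, _root_.and_self]) (by decide +kernel) (by decide +kernel) (by norm_num)
    ⟨y, hy, H547.SelfCent.Conway.co3 h (H393.Iso.na_co3 h) hy⟩

theorem row_hs (hna : ¬ IsMulCommutative K) (hsp : IsSporadicGroup K) (h : Spor.IsoHS K) : AS2 K := by
  have hcard := NotCT.Orders.hs h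
  have : Fact (Nat.Prime 11) := ⟨by norm_num⟩
  obtain ⟨y, hy⟩ := exists_prime_orderOf_dvd_card' (G := K) 11 (by rw [hcard]; norm_num)
  exact AS2.of_ls hna hsp (p := 11) [(2, 9), (3, 2), (5, 3), (7, 1)] hcard (by norm_num) (by norm_num)
    (by norm_num) (by norm_num) (by decide +kernel) (by decide +kernel) (by norm_num)
    ⟨y, hy, H547.SelfCent.McLHS.hs h (H393.Iso.na_hs h) hcard hy⟩

theorem row_ru (hna : ¬ IsMulCommutative K) (hsp : IsSporadicGroup K) (h : Spor.IsoRu K) : AS2 K := by
  have hcard := NotCT.Orders.ru h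
  have : Fact (Nat.Prime 29) := ⟨by norm_num⟩
  obtain ⟨y, hy⟩ := exists_prime_orderOf_dvd_card' (G := K) 29 (by rw [hcard]; norm_num)
  exact AS2.of_ls hna hsp (p := 29) [(2, 14), (3, 3), (5, 3), (7, 1), (13, 1)] hcard (by norm_num) (by norm_num)
    (by norm_num) (by norm_num only [_root_.List.mem_cons, _root_.List.not_mem_nil, _root_.or_false, _root_.forall_eq_or_imp, _root_.forall_eq, _root_.and_self]) (by decide +kernel) (by decide +kernel) (by norm_num)
    ⟨y, hy, H547.SelfCent.Ru.ru h (H393.Iso.na_ru h) hy⟩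

theorem row_hn (hna : ¬ IsMulCommutative K) (hsp : IsSporadicGroup K) (h : Spor.IsoHN K) : AS2 K := by
  have hcard := NotCT.Orders.hn h
  have hs : Self 19 Spor.HN := H845.HNNineteen.hn_nineteen
  exact AS2.of_ls hna hsp (p := 19) [(2, 14), (3, 6), (5, 6), (7, 1), (11, 1)] hcard (by norm_num) (by norm_num)
    (by norm_num) (by norm_num only [_root_.List.mem_cons, _root_.List.not_mem_nil, _root_.or_false, _root_.forall_eq_or_imp, _root_.forall_eq, _root_.and_self]) (by decide +kernel) (by decide +kernel) (by norm_num)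
    (h.elim fun e => hs.congr e.symm)

theorem self_on : Self 11 Spor.ON := by
  have : Fact (Nat.Prime 11) := ⟨by norm_num⟩
  have hcard := NotCT.Orders.on (K := Spor.ON) ⟨MulEquiv.refl _⟩
  have hfin : Finite Spor.ON := Nat.finite_of_card_ne_zero (by rw [hcard]; norm_num)
  obtain ⟨y, hy⟩ := exists_prime_orderOf_dvd_card' (G := Spor.ON) 11 (by rw [hcard]; norm_num)
  exact ⟨y, hy, H474.ONC.card_cent_eleven hy⟩

theorem row_on (hna : ¬ IsMulCommutative K) (hsp : IsSporadicGroup K) (h : Spor.IsoON K) : AS2 K := by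
  have hcard := NotCT.Orders.on h
  exact AS2.of_ls hna hsp (p := 11) [(2, 9), (3, 4), (5, 1), (7, 3), (19, 1), (31, 1)] hcard (by norm_num) (by norm_num)
    (by norm_num) (by norm_num only [_root_.List.mem_cons, _root_.List.not_mem_nil, _root_.or_false, _root_.forall_eq_or_imp, _root_.forall_eq, _root_.and_self]) (by decide +kernel) (by decide +kernel) (by norm_num)
    (h.elim fun e => self_on.congr e.symm)

theorem self_th : Self 19 Spor.Th := by
  have hc := NotCT.Orders.th (K := Spor.Th) ⟨MulEquiv.refl _⟩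
  have hfin : Finite Spor.Th := Nat.finite_of_card_ne_zero (by rw [hc]; norm_num)
  have : Fact (Nat.Prime 19) := ⟨by norm_num⟩
  obtain ⟨x, hx⟩ := exists_prime_orderOf_dvd_card' (G := Spor.Th) 19 (by rw [hc]; norm_num)
  refine ⟨x, hx, ?_⟩
  -- the centraliser is a 19-group
  have h1 : ∀ p : ℕ, p.Prime → p ∣ Nat.card (Subgroup.centralizer ({x} : Set Spor.Th)) → p = 19 := by
    intro p hp hpd
    by_contra hne
    have : Fact p.Prime := ⟨hp⟩
    obtain ⟨y, hy⟩ := exists_prime_orderOf_dvd_card' p hpd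
    have hyG : orderOf (y : Spor.Th) = p := by rw [Subgroup.orderOf_coe, hy]
    have hy1 : (y : Spor.Th) ≠ 1 := by
      intro h1
      rw [h1, orderOf_one] at hyG
      exact hp.one_lt.ne hyG
    refine Cfsg.Agent.H574.RowTh.th_nineteen hy1 (by
      rw [hyG]
      intro h2
      exact hne ((Nat.prime_dvd_prime_iff_eq (by norm_num) hp).1 h2).symm) ?_
    have hxy : x ∈ Subgroup.centralizer ({(y : Spor.Th)} : Set Spor.Th) := by
      rw [Subgroup.mem_centralizer_singleton_iff]
      exact (Subgroup.mem_centralizer_singleton_iff.1 y.2).symm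
    rw [← hx]
    exact Subgroup.orderOf_dvd_natCard _ hxy
  obtain ⟨k, hk⟩ : ∃ k, Nat.card (Subgroup.centralizer ({x} : Set Spor.Th)) = 19 ^ k :=
    ⟨_, Nat.eq_prime_pow_of_unique_prime_dvd Nat.card_pos.ne' (fun {d} hd hdd => h1 d hd hdd)⟩
  have h19 : 19 ∣ Nat.card (Subgroup.centralizer ({x} : Set Spor.Th)) := by
    rw [← hx]
    exact Subgroup.orderOf_dvd_natCard _ (Subgroup.mem_centralizer_singleton_iff.2 rfl)
  have hG : Nat.card (Subgroup.centralizer ({x} : Set Spor.Th)) ∣ 90745943887872000 := by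
    rw [← hc]; exact Subgroup.card_subgroup_dvd_card _
  rw [hk] at h19 hG ⊢
  have hk1 : k = 1 := by
    rcases k with _ | _ | k
    · norm_num at h19
    · rfl
    · exfalso
      have : 19 ^ 2 ∣ 90745943887872000 := (pow_dvd_pow 19 (by omega)).trans hG
      norm_num at this
  rw [hk1, pow_one]

theorem row_th (hna : ¬ IsMulCommutative K) (hsp : IsSporadicGroup K) (h : Spor.IsoTh K) : AS2 K := by
  have hcard := NotCT.Orders.th h
  exact AS2.of_ls hna hsp (p := 19) [(2, 15), (3, 10), (5, 3), (7, 2), (13, 1), (31, 1)] hcard (by norm_num)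
    (by norm_num) (by norm_num) (by norm_num only [_root_.List.mem_cons, _root_.List.not_mem_nil, _root_.or_false, _root_.forall_eq_or_imp, _root_.forall_eq, _root_.and_self]) (by decide +kernel) (by decide +kernel) (by norm_num)
    (h.elim fun e => self_th.congr e.symm)

end

end Cfsg.Agent.H965.AS
end
end
end
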